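import Groth.Agent.EulerConst.Fibre
import Groth.Agent.AVDegPoly.Vol
import Groth.Agent.S1528

/-!
# τ-equivalence does not change Euler characteristics
-/

set_option linter.style.haveILetI false
set_option backward.isDefEq.respectTransparency false
set_option backward.isDefEq.respectTransparency.types false

universe u

open CategoryTheory CategoryTheory.Limits AlgebraicGeometry TopologicalSpace

namespace Groth.Agent.EulerConst

open Groth.Agent Groth.Agent.H23 Groth.Agent.H23.PicMul
open scoped Groth.Agent.H23.PicMul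

variable (k : Type u) [Field k] {X : Scheme.{u}} [X.Over (Spec (CommRingCat.of k))]
  [IsProper (X ↘ Spec (CommRingCat.of k))]

omit [IsProper (X ↘ Spec (CommRingCat.of k))] in
theorem eulerCharLE_congr {A B : X.Modules} (h : PicF.cl A = PicF.cl B) (d : ℕ) :
    FGA.eulerCharLE k X A d = FGA.eulerCharLE k X B d :=
  Finset.sum_congr rfl fun i _ => by rw [(CurveCohLib.hhEquiv (k := k) (cl_eq_iff.1 h).some i).finrank_eq]

theorem euler_eq_eulerCharLE (d : ℕ) (hd : topologicalKrullDim X ≤ d) {M : X.Modules} (hM : Coh.IsQCoh M) :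
    Curv2.euler k X M = FGA.eulerCharLE k X M d := by
  haveI : IsNoetherian X := CurveCohLib.isNoetherian_of_proper (k := k) (X := X)
  haveI : X.IsSeparated := ⟨by
    rw [← terminal.comp_from (X ↘ Spec (CommRingCat.of k))]
    infer_instance⟩
  refine finsum_eq_finsetSum_of_support_subset _ fun i hi => ?_
  by_contra hi'
  haveI := Snapper.subsingleton_HH_of_dim_le hd hM (show d < i by simpa using hi')
  exact hi (by simp [Module.finrank_zero_of_subsingleton])

/-- Twisting by powers of a τ-trivial module does not change the Euler characteristic. -/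
theorem eulerCharLE_tensor_pow_of_tau (d : ℕ) (hd : topologicalKrullDim X ≤ d) {L : X.Modules}
    (hL : PicF.IsInvertible L) (hτ : Pic13.IsTauEquivZero k X L) {F : X.Modules} (hF : Coh.IsCoh F) (m : ℕ) :
    FGA.eulerCharLE k X (CohB1.tensorMod F (CohB1.tensorPow L m)) d = FGA.eulerCharLE k X F d := by
  obtain ⟨n, hn, hn'⟩ := hτ
  haveI : IsNoetherian X := CurveCohLib.isNoetherian_of_proper (k := k) (X := X)
  obtain ⟨P, -, hP⟩ := S1528.result k X F hF d ((topologicalKrullDim_subspace_le X _).trans hd) 1 (fun _ => L) fun _ => hL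
  let c := FGA.eulerCharLE k X F d
  let Q : Polynomial ℚ := MvPolynomial.eval₂ Polynomial.C (fun _ => Polynomial.X) P
  have hcoh : ∀ j, Coh.IsCoh (CohB1.tensorMod F (CohB1.tensorPow L j)) := fun j =>
    RefX2.isCoh_tensor hF (CurveDeg.isCoh_of_isInvertible (InvX.isInvertible_tensorPow (n := j) hL))
  have hQ : ∀ j : ℕ, Q.eval (j : ℚ) = (FGA.eulerCharLE k X (CohB1.tensorMod F (CohB1.tensorPow L j)) d : ℚ) := by
    intro j
    have h1 : Q.eval (j : ℚ) = MvPolynomial.eval (fun _ => (j : ℚ)) P := by
      show (Polynomial.evalRingHom (j : ℚ)) _ = _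
      rw [MvPolynomial.eval₂_comp_left]
      have h2 : (Polynomial.evalRingHom (j : ℚ)).comp Polynomial.C = RingHom.id ℚ := RingHom.ext fun a => by simp
      rw [h2]
      exact congrArg (fun g => MvPolynomial.eval₂ (RingHom.id ℚ) g P) (funext fun _ => Polynomial.eval_X)
    rw [h1, ← hP fun _ => j]
    obtain ⟨e⟩ := cl_eq_iff.1 (show PicF.cl (Curv2.tensorPows F 1 (fun _ => L) fun _ => j) =
        PicF.cl (CohB1.tensorMod F (CohB1.tensorPow L j)) by
      rw [AVDegPoly.cl_tensorPows, cl_tensor, cl_tensorPow, Fin.prod_univ_one])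
    rw [CurveCohLib.euler_congr (k := k) e, euler_eq_eulerCharLE k d hd (hcoh j).1]
  have hper : ∀ r : ℕ, FGA.eulerCharLE k X (CohB1.tensorMod F (CohB1.tensorPow L (n * r))) d = c := by
    intro r
    induction r with
    | zero =>
      refine eulerCharLE_congr k ?_ d
      rw [cl_tensor, cl_tensorPow, mul_zero, pow_zero, mul_one]
    | succ r ih =>
      refine (eulerCharLE_congr k (B := CohB1.tensorMod (CohB1.tensorMod F (CohB1.tensorPow L (n * r))) (CohB1.tensorPow L n)) ?_ d).trans ?_
      · rw [cl_tensor, cl_tensor, cl_tensor, cl_tensorPow, cl_tensorPow, cl_tensorPow, mul_add, mul_one, pow_add, mul_assoc]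
      · exact (eulerCharLE_tensor_eq k X d hd hn' (hcoh _)).trans ih
  have hconst : Q = Polynomial.C (c : ℚ) := by
    refine Polynomial.eq_of_infinite_eval_eq _ _ (Set.Infinite.mono ?_
      (Set.infinite_range_of_injective (f := fun r : ℕ => ((n * r : ℕ) : ℚ)) fun a b h => ?_))
    · rintro _ ⟨r, rfl⟩
      show Q.eval _ = _
      rw [hQ, hper, Polynomial.eval_C]
    · exact Nat.eq_of_mul_eq_mul_left hn (Nat.cast_injective h)
  have := hQ m
  rw [hconst, Polynomial.eval_C] at this
  exact_mod_cast this.symm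

/-- The case of the first power. -/
theorem eulerCharLE_tensor_of_tau (d : ℕ) (hd : topologicalKrullDim X ≤ d) {L : X.Modules}
    (hL : PicF.IsInvertible L) (hτ : Pic13.IsTauEquivZero k X L) {F : X.Modules} (hF : Coh.IsCoh F) :
    FGA.eulerCharLE k X (CohB1.tensorMod F L) d = FGA.eulerCharLE k X F d := by
  refine (eulerCharLE_congr k ?_ d).trans (eulerCharLE_tensor_pow_of_tau k d hd hL hτ hF 1)
  rw [cl_tensor, cl_tensor, cl_tensorPow, pow_one]

end Groth.Agent.EulerConst
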