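import Groth.Agent.EulerConst.Tau

/-!
# Pullback of algebraically trivial modules
-/

set_option linter.style.haveILetI false
set_option backward.isDefEq.respectTransparency false
set_option backward.isDefEq.respectTransparency.types false

universe u

open CategoryTheory CategoryTheory.Limits AlgebraicGeometry TopologicalSpace

namespace Groth.Agent.EulerConst

open Groth.Agent Groth.Agent.H23 Groth.Agent.H23.PicMul
open scoped Groth.Agent.H23.PicMul

variable (k : Type u) [Field k]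

theorem isAlgEquivZero_pullback {X Y : Scheme.{u}} [X.Over (Spec (CommRingCat.of k))] [Y.Over (Spec (CommRingCat.of k))]
    (i : Y ⟶ X) (hi : i ≫ (X ↘ Spec (CommRingCat.of k)) = Y ↘ Spec (CommRingCat.of k)) {L : X.Modules}
    (hL : Pic13.IsAlgEquivZero k X L) :
    Pic13.IsAlgEquivZero k Y ((Scheme.Modules.pullback i).obj L) := by
  obtain ⟨T, q, hT, hq, hqc, M, hM, t, t₀, ht, ht₀, ⟨et⟩, ⟨et₀⟩⟩ := hL
  let iT : Pic13.prodK k Y q ⟶ Pic13.prodK k X q :=
    pullback.map _ _ _ _ i (𝟙 T) (𝟙 _) (by rw [Category.comp_id, hi]) (by rw [Category.comp_id, Category.id_comp])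
  have hs : ∀ (s : Spec (CommRingCat.of k) ⟶ T) (hs : s ≫ q = 𝟙 _),
      Pic13.sliceAt k Y q s hs ≫ iT = i ≫ Pic13.sliceAt k X q s hs := fun s hs => by
    refine pullback.hom_ext ?_ ?_
    · simp only [iT, Pic13.sliceAt, Category.assoc, pullback.lift_fst, pullback.lift_fst_assoc, Category.comp_id,
        Category.id_comp]
    · simp only [iT, Pic13.sliceAt, Category.assoc, pullback.lift_snd, pullback.lift_snd_assoc, Category.comp_id]
      rw [← Category.assoc, hi]
  have hiso : ∀ (s : Spec (CommRingCat.of k) ⟶ T) (hh : s ≫ q = 𝟙 _),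
      Nonempty (Pic13.fibreMod k Y q s hh ((Scheme.Modules.pullback iT).obj M) ≅
        (Scheme.Modules.pullback i).obj (Pic13.fibreMod k X q s hh M)) := fun s hh =>
    ⟨(Scheme.Modules.pullbackComp _ _).app M ≪≫ (Scheme.Modules.pullbackCongr (hs s hh)).app M ≪≫
      ((Scheme.Modules.pullbackComp _ _).app M).symm⟩
  obtain ⟨a⟩ := hiso t ht
  obtain ⟨b⟩ := hiso t₀ ht₀
  obtain ⟨u⟩ := PicClLib.nonempty_pullback_structureModule i
  exact ⟨T, q, hT, hq, hqc, _, PicClLib.isInvertible_pullback iT hM, t, t₀, ht, ht₀,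
    ⟨a ≪≫ (Scheme.Modules.pullback i).mapIso et⟩, ⟨b ≪≫ (Scheme.Modules.pullback i).mapIso et₀ ≪≫ u⟩⟩

theorem isTauEquivZero_pullback {X Y : Scheme.{u}} [X.Over (Spec (CommRingCat.of k))] [Y.Over (Spec (CommRingCat.of k))]
    (i : Y ⟶ X) (hi : i ≫ (X ↘ Spec (CommRingCat.of k)) = Y ↘ Spec (CommRingCat.of k)) {L : X.Modules}
    (hL : Pic13.IsTauEquivZero k X L) :
    Pic13.IsTauEquivZero k Y ((Scheme.Modules.pullback i).obj L) := by
  obtain ⟨n, hn, h⟩ := hL
  obtain ⟨T, q, hT, hq, hqc, M, hM, t, t₀, ht, ht₀, ⟨et⟩, h₀⟩ := isAlgEquivZero_pullback k i hi h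
  obtain ⟨e⟩ := cl_eq_iff.1 (show PicF.cl ((Scheme.Modules.pullback i).obj (CohB1.tensorPow L n)) =
      PicF.cl (CohB1.tensorPow ((Scheme.Modules.pullback i).obj L) n) by
    show PicF.pullCl i (PicF.cl (CohB1.tensorPow L n)) = _
    rw [cl_tensorPow, cl_tensorPow, pullCl_pow]
    rfl)
  exact ⟨n, hn, T, q, hT, hq, hqc, M, hM, t, t₀, ht, ht₀, ⟨et ≪≫ e⟩, h₀⟩

end Groth.Agent.EulerConst
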