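import Groth.Agent.DerBC7.EulerModel
import Groth.Agent.CurveBC.Coh
import Groth.Agent.Snapper.DimVanish
import Groth.Agent.LineDesc.RelPic
import Groth.Agent.H23.Seesaw
import Groth.Agent.QCoh.LocFree
import Groth.Agent.Lib.InvEnd
import Groth.Agent.S9777
import Groth.Prelude.Def_AbDual
import Groth.Prelude.Def_FGA

/-!
# Fibrewise degree of classes on a relative curve
-/

set_option autoImplicit false
set_option backward.isDefEq.respectTransparency false
set_option backward.isDefEq.respectTransparency.types false
set_option linter.style.haveILetI false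

universe u

open CategoryTheory CategoryTheory.Limits AlgebraicGeometry TopologicalSpace

noncomputable section

namespace Groth.Agent.DegData

open Groth.Agent

variable {C S : Scheme.{u}} (f : C ⟶ S)

/-- `χ(L_t) - χ(O_t)` as a function of the class. -/
def deg (T : Over S) (c : PicF.Cl (PicF.XT f T)) (t : T.left) : ℤ :=
  Quot.liftOn c (fun L => FGA.eulerCharLE (T.left.residueField t) (FGA.fibreAt f T t).left (FGA.restrFibre f T t L) 1 -
    FGA.eulerCharLE (T.left.residueField t) (FGA.fibreAt f T t).left (Coh.structureModule (FGA.fibreAt f T t).left) 1)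
    fun _ _ ⟨e⟩ => congrArg (· - _) (Finset.sum_congr rfl fun i _ =>
      congrArg (fun z : ℕ => (-1 : ℤ) ^ i * (z : ℤ)) (CurveCohLib.hhEquiv (k := T.left.residueField t) (X := (FGA.fibreAt f T t).left)
        ((Scheme.Modules.pullback (pullback.fst (PicF.XTproj f T) (T.left.fromSpecResidueField t))).mapIso e) i).finrank_eq)

theorem isInvertibleCl_pullCl {Y Y' : Scheme.{u}} (g : Y' ⟶ Y) {c : PicF.Cl Y} (hc : PicF.IsInvertibleCl c) :
    PicF.IsInvertibleCl (PicF.pullCl g c) := by
  obtain ⟨L, rfl, hL⟩ := hc
  exact ⟨_, rfl, PicClLib.isInvertible_pullback g hL⟩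

variable [IsProper f] (hdim : ∀ s : S, topologicalKrullDim ↥(f.fiber s) = 1)

include hdim in
theorem deg_pullCl {T T' : Over S} (g : T' ⟶ T) {c : PicF.Cl (PicF.XT f T)} (hc : PicF.IsInvertibleCl c) (t' : T'.left) :
    deg f T' (PicF.pullCl (PicF.XTmap f g) c) t' = deg f T c (g.left t') := by
  obtain ⟨L, rfl, hL⟩ := hc
  let p := PicF.XTproj f T
  let p' := PicF.XTproj f T'
  let j := T.left.fromSpecResidueField (g.left t')
  let j' := T'.left.fromSpecResidueField t'
  let κ := T.left.residueField (g.left t')
  let κ' := T'.left.residueField t'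
  let α : κ ⟶ κ' := g.left.residueFieldMap t'
  have hα : Spec.map α ≫ j = j' ≫ g.left := g.left.SpecMap_residueFieldMap_fromSpecResidueField t'
  letI : Algebra κ κ' := α.hom.toAlgebra
  letI : (pullback p j).Over (Spec (CommRingCat.of κ)) := ⟨pullback.snd p j⟩
  letI : (pullback p' j').Over (Spec (CommRingCat.of κ')) := ⟨pullback.snd p' j'⟩
  haveI : IsProper p := inferInstanceAs (IsProper (pullback.snd f T.hom))
  haveI : IsProper (pullback p j ↘ Spec (CommRingCat.of κ)) := inferInstanceAs (IsProper (pullback.snd p j))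
  haveI : IsNoetherian (pullback p j) := CurveCohLib.isNoetherian_of_proper (k := κ) (X := pullback p j)
  have sq : IsPullback (pullback.fst p' j' ≫ PicF.XTmap f g) (pullback.snd p' j') p (Spec.map α ≫ j) := by
    rw [hα]
    exact (IsPullback.of_hasPullback p' j').paste_horiz (LineDesc.Rig.isPullback_XTmap g)
  let m : pullback p' j' ⟶ pullback p j :=
    pullback.lift (pullback.fst p' j' ≫ PicF.XTmap f g) (pullback.snd p' j' ≫ Spec.map α) (by rw [sq.w, Category.assoc])
  have hm : m ≫ pullback.fst p j = pullback.fst p' j' ≫ PicF.XTmap f g := pullback.lift_fst _ _ _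
  have hpb : IsPullback m (pullback.snd p' j') (pullback.snd p j) (Spec.map α) := by
    refine IsPullback.of_right ?_ (pullback.lift_snd _ _ _) (IsPullback.of_hasPullback p j)
    rw [hm]
    exact sq
  let e : (Scheme.Modules.pullback m).obj (FGA.restrFibre f T (g.left t') L) ≅
      FGA.restrFibre f T' t' ((Scheme.Modules.pullback (PicF.XTmap f g)).obj L) :=
    (Scheme.Modules.pullbackComp m (pullback.fst p j)).app L ≪≫ (Scheme.Modules.pullbackCongr hm).app L ≪≫
      ((Scheme.Modules.pullbackComp (pullback.fst p' j') (PicF.XTmap f g)).app L).symm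
  show FGA.eulerCharLE κ' (pullback p' j') (FGA.restrFibre f T' t' _) 1 - FGA.eulerCharLE κ' (pullback p' j') (Coh.structureModule _) 1 =
    FGA.eulerCharLE κ (pullback p j) (FGA.restrFibre f T (g.left t') L) 1 - FGA.eulerCharLE κ (pullback p j) (Coh.structureModule _) 1
  refine congrArg₂ (· - ·) (Finset.sum_congr rfl fun i _ => ?_) (Finset.sum_congr rfl fun i _ => ?_)
  · exact congrArg (fun z : ℕ => (-1 : ℤ) ^ i * (z : ℤ))
      ((CurveCohLib.hhEquiv (k := κ') e i).finrank_eq.symm.trans
        (CurveBC.finrank_hh κ κ' m hpb _ (ProjUPX.isQCoh_of_isInvertible (PicClLib.isInvertible_pullback _ hL)) i))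
  · exact congrArg (fun z : ℕ => (-1 : ℤ) ^ i * (z : ℤ)) (CurveBC.finrank_hh_unit κ κ' m hpb i)

variable [Flat f] [LocallyOfFinitePresentation f]

include hdim in
theorem eulerChar_eq (T : Over S) {F : (PicF.XT f T).Modules} (hF : Coh.IsQCoh F) (t : T.left) :
    PerfAux.eulerChar (PicF.XTproj f T) F t =
      FGA.eulerCharLE (T.left.residueField t) (FGA.fibreAt f T t).left (FGA.restrFibre f T t F) 1 := by
  let p := PicF.XTproj f T
  let j := T.left.fromSpecResidueField t
  let κ := T.left.residueField t
  letI : (pullback p j).Over (Spec (CommRingCat.of κ)) := ⟨pullback.snd p j⟩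
  haveI : IsProper p := inferInstanceAs (IsProper (pullback.snd f T.hom))
  haveI : IsProper (pullback p j ↘ Spec (CommRingCat.of κ)) := inferInstanceAs (IsProper (pullback.snd p j))
  haveI : IsNoetherian (pullback p j) := CurveCohLib.isNoetherian_of_proper (k := κ) (X := pullback p j)
  haveI : (pullback p j).IsSeparated := ⟨by
    rw [← terminal.comp_from (pullback p j ↘ Spec (CommRingCat.of κ))]
    infer_instance⟩
  have hd : topologicalKrullDim ↥(pullback p j) ≤ (1 : ℕ) :=
    ((S9777.result f T.hom p (pullback.fst f T.hom) (IsPullback.of_hasPullback f T.hom) t).trans (hdim _)).le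
  refine finsum_eq_finsetSum_of_support_subset _ fun i hi => ?_
  by_contra hi'
  haveI := Snapper.subsingleton_HH_of_dim_le hd (QCoh.isQCoh_pullback (pullback.fst p j) hF) (show 1 < i by simpa using hi')
  refine hi ?_
  show (-1 : ℤ) ^ i * (Module.finrank κ (Coh.HH (pullback p j) ((Scheme.Modules.pullback (pullback.fst p j)).obj F) i) : ℤ) = 0
  simp [Module.finrank_zero_of_subsingleton]

include hdim in
theorem isLocallyConstant_deg {T : Over S} {c : PicF.Cl (PicF.XT f T)} (hc : PicF.IsInvertibleCl c) :
    IsLocallyConstant fun t => deg f T c t := by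
  obtain ⟨L, rfl, hL⟩ := hc
  let p := PicF.XTproj f T
  haveI : IsProper p := inferInstanceAs (IsProper (pullback.snd f T.hom))
  haveI : Flat p := inferInstanceAs (Flat (pullback.snd f T.hom))
  haveI : LocallyOfFinitePresentation p := inferInstanceAs (LocallyOfFinitePresentation (pullback.snd f T.hom))
  have key : ∀ {G : (PicF.XT f T).Modules}, PicF.IsInvertible G → IsLocallyConstant fun t => PerfAux.eulerChar p G t :=
    fun hG => DerBC7.isLocallyConstant_eulerChar (ProjUPX.isQCoh_of_isInvertible hG)
      (QCoh.isFP_of_isFinLocFree (fun x => let ⟨U, hx, e⟩ := InvEnd.isFinLocFreeOfRank_one hG x; ⟨U, 1, hx, e⟩)) (H23.Seesaw.isFlatOver_of_isInvertible p hG)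
  have h := (key hL).comp₂ (key InvX.isInvertible_structureModule) (· - ·)
  convert h using 1
  funext t
  rw [eulerChar_eq f hdim T (ProjUPX.isQCoh_of_isInvertible hL),
    eulerChar_eq f hdim T (ProjUPX.isQCoh_of_isInvertible InvX.isInvertible_structureModule)]
  obtain ⟨e⟩ := PicClLib.nonempty_pullback_structureModule (pullback.fst p (T.left.fromSpecResidueField t))
  exact congrArg₂ (· - ·) rfl (Finset.sum_congr rfl fun i _ => congrArg (fun z : ℕ => (-1 : ℤ) ^ i * (z : ℤ))
    (CurveCohLib.hhEquiv (k := T.left.residueField t) (X := (FGA.fibreAt f T t).left) e i).finrank_eq.symm)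

end Groth.Agent.DegData
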