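import Groth.Agent.DerBC7.EulerModel
import Groth.Agent.CurveBC.Coh
import Groth.Agent.AssLib.FlatField
import Groth.Agent.Snapper.DimVanish
import Groth.Agent.FlatTwist.Main
import Groth.Agent.H23.PicMul
import Groth.Agent.H23.Seesaw
import Groth.Agent.ZClosLib.CohDescent
import Groth.Agent.RefX2.Tensor
import Groth.Agent.KZ.LFRes
import Groth.Agent.MorLib.FlatBC
import Groth.Prelude.Def_Pic13
import Groth.Prelude.Def_FGA

/-!
# Euler characteristics along a connected family
-/

set_option backward.isDefEq.respectTransparency false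
set_option backward.isDefEq.respectTransparency.types false
set_option linter.style.haveILetI false

universe u

open CategoryTheory CategoryTheory.Limits AlgebraicGeometry TopologicalSpace

namespace Groth.Agent.EulerConst

open Groth.Agent

variable (k : Type u) [Field k] (X : Scheme.{u}) [X.Over (Spec (CommRingCat.of k))]

theorem isFlatOver_field {Y : Scheme.{u}} (f : Y ⟶ Spec (CommRingCat.of k)) (F : Y.Modules) :
    FlatMod.IsFlatOver f F := fun x => by
  unfold FlatMod.IsFlatOverAt
  letI := FlatMod.moduleStalkOver f F x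
  have hF : IsField ((Spec (CommRingCat.of k)).presheaf.stalk (f x)) :=
    ⟨⟨0, 1, zero_ne_one⟩, mul_comm, fun {a} ha =>
      isUnit_iff_exists_inv.1 ((FlatDvr.eq_zero_or_isUnit_stalk_field k _ a).resolve_left ha)⟩
  letI := hF.toField
  exact Module.Flat.of_free

variable [IsProper (X ↘ Spec (CommRingCat.of k))] {T : Scheme.{u}} (q : T ⟶ Spec (CommRingCat.of k))

/-- The fibre over a rational point. -/
theorem eulerChar_point (d : ℕ) (hd : topologicalKrullDim X ≤ d) [LocallyOfFiniteType q]
    {N : (Pic13.prodK k X q).Modules} (hN : Coh.IsQCoh N) (t : Spec (CommRingCat.of k) ⟶ T) (ht : t ≫ q = 𝟙 _) :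
    PerfAux.eulerChar (pullback.snd (X ↘ Spec (CommRingCat.of k)) q) N (t (IsLocalRing.closedPoint k)) =
      FGA.eulerCharLE k X (Pic13.fibreMod k X q t ht N) d := by
  haveI : IsNoetherian X := CurveCohLib.isNoetherian_of_proper (k := k) (X := X)
  haveI : X.IsSeparated := ⟨by
    rw [← terminal.comp_from (X ↘ Spec (CommRingCat.of k))]
    infer_instance⟩
  set y := t (IsLocalRing.closedPoint k) with hy
  let p := pullback.snd (X ↘ Spec (CommRingCat.of k)) q
  let ψ : T.residueField y ⟶ CommRingCat.of k := T.descResidueField (Scheme.stalkClosedPointTo t)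
  have hψ : Spec.map ψ ≫ T.fromSpecResidueField y = t :=
    Scheme.descResidueField_stalkClosedPointTo_fromSpecResidueField k T t
  let α : CommRingCat.of k ⟶ T.residueField y := Spec.preimage (T.fromSpecResidueField y ≫ q)
  have hα : Spec.map α = T.fromSpecResidueField y ≫ q := Spec.map_preimage _
  have hαψ : α ≫ ψ = 𝟙 _ := Spec.map_injective (by
    rw [Spec.map_comp, Spec.map_id, hα, ← Category.assoc, hψ, ht])
  have hψα : ψ ≫ α = 𝟙 _ := CommRingCat.hom_ext (RingHom.ext fun a => ψ.hom.injective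
    (ConcreteCategory.congr_hom hαψ (ψ a)))
  have hy' : T.fromSpecResidueField y = Spec.map α ≫ t := by
    rw [← hψ, ← Category.assoc, ← Spec.map_comp, hψα, Spec.map_id, Category.id_comp]
  letI : Algebra k (T.residueField y) := α.hom.toAlgebra
  letI : (p.fiber y).Over (Spec (CommRingCat.of (T.residueField y))) := ⟨p.fiberToSpecResidueField y⟩
  let g : p.fiber y ⟶ X := p.fiberι y ≫ pullback.fst (X ↘ Spec (CommRingCat.of k)) q
  have hpb : IsPullback g (p.fiberToSpecResidueField y) (X ↘ Spec (CommRingCat.of k)) (Spec.map α) := by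
    rw [hα]
    exact (IsPullback.of_hasPullback p (T.fromSpecResidueField y)).paste_horiz
      (IsPullback.of_hasPullback (X ↘ Spec (CommRingCat.of k)) q)
  have hg : g ≫ Pic13.sliceAt k X q t ht = p.fiberι y := by
    refine pullback.hom_ext ?_ ?_
    · rw [Category.assoc, Pic13.sliceAt, pullback.lift_fst, Category.comp_id]
    · have hfac : p.fiberι y ≫ p = p.fiberToSpecResidueField y ≫ T.fromSpecResidueField y := pullback.condition
      rw [Category.assoc, Pic13.sliceAt, pullback.lift_snd, ← Category.assoc, hpb.w, Category.assoc, ← hy']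
      exact hfac.symm
  have hM : Coh.IsQCoh (Pic13.fibreMod k X q t ht N) := QCoh.isQCoh_pullback _ hN
  let e : (Scheme.Modules.pullback g).obj (Pic13.fibreMod k X q t ht N) ≅ (Scheme.Modules.pullback (p.fiberι y)).obj N :=
    (Scheme.Modules.pullbackComp g (Pic13.sliceAt k X q t ht)).app N ≪≫ (Scheme.Modules.pullbackCongr hg).app N
  have hb : ∀ i, PerfAux.betti p N y i = Module.finrank k (Coh.HH X (Pic13.fibreMod k X q t ht N) i) := fun i => by
    show Module.finrank (T.residueField y) (Coh.HH (p.fiber y) ((Scheme.Modules.pullback (p.fiberι y)).obj N) i) = _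
    rw [← (CurveCohLib.hhEquiv (k := T.residueField y) e i).finrank_eq]
    exact CurveBC.finrank_hh k (T.residueField y) g hpb _ hM i
  refine (finsum_eq_finsetSum_of_support_subset _ fun i hi => ?_).trans (Finset.sum_congr rfl fun i _ => by rw [hb])
  by_contra hi'
  haveI := Snapper.subsingleton_HH_of_dim_le hd hM (show d < i by simpa using hi')
  exact hi (show (-1 : ℤ) ^ i * (PerfAux.betti p N y i : ℤ) = 0 by rw [hb, Module.finrank_zero_of_subsingleton]; simp)

/-- Along a connected family flat over the parameters the Euler characteristic does not vary. -/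
theorem eulerCharLE_eq [ConnectedSpace T] [LocallyOfFiniteType q] (d : ℕ) (hd : topologicalKrullDim X ≤ d)
    {N : (Pic13.prodK k X q).Modules} (hN : Coh.IsQCoh N) (hfp : CohB1.IsFP N)
    (hfl : FlatMod.IsFlatOver (pullback.snd (X ↘ Spec (CommRingCat.of k)) q) N)
    (t t₀ : Spec (CommRingCat.of k) ⟶ T) (ht : t ≫ q = 𝟙 _) (ht₀ : t₀ ≫ q = 𝟙 _) :
    FGA.eulerCharLE k X (Pic13.fibreMod k X q t ht N) d = FGA.eulerCharLE k X (Pic13.fibreMod k X q t₀ ht₀ N) d := by
  rw [← eulerChar_point k X q d hd hN t ht, ← eulerChar_point k X q d hd hN t₀ ht₀]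
  exact (DerBC7.isLocallyConstant_eulerChar hN hfp hfl).apply_eq_of_preconnectedSpace _ _

/-- Twisting by an algebraically trivial module does not change the Euler characteristic. -/
theorem eulerCharLE_tensor_eq (d : ℕ) (hd : topologicalKrullDim X ≤ d) {L : X.Modules}
    (hL : Pic13.IsAlgEquivZero k X L) {F : X.Modules} (hF : Coh.IsCoh F) :
    FGA.eulerCharLE k X (CohB1.tensorMod F L) d = FGA.eulerCharLE k X F d := by
  obtain ⟨T, q, hT, hq, -, M, hM, t, t₀, ht, ht₀, ⟨et⟩, ⟨et₀⟩⟩ := hL
  haveI := hT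
  haveI := hq
  haveI : IsNoetherian X := CurveCohLib.isNoetherian_of_proper (k := k) (X := X)
  haveI : IsLocallyNoetherian T := LocallyOfFiniteType.isLocallyNoetherian q
  haveI : IsLocallyNoetherian (Pic13.prodK k X q) :=
    LocallyOfFiniteType.isLocallyNoetherian (pullback.snd (X ↘ Spec (CommRingCat.of k)) q)
  let F' := (Scheme.Modules.pullback (pullback.fst (X ↘ Spec (CommRingCat.of k)) q)).obj F
  have hF' : Coh.IsCoh F' := ZClosLib.isCoh_pullback _ hF
  have hFfl : FlatMod.IsFlatOver (pullback.snd (X ↘ Spec (CommRingCat.of k)) q) F' := fun x =>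
    MorLib.FlatBC.isFlatOverAt_baseChange _ _ _ q (IsPullback.of_hasPullback _ _) F x (isFlatOver_field k _ F _)
  let N := CohB1.tensorMod F' M
  have hN : Coh.IsQCoh N := KFlatLib.isQCoh_tensor hF'.1 (ProjUPX.isQCoh_of_isInvertible hM)
  have hNfp : CohB1.IsFP N := KZ.LFRes.isFP_of_isCoh (RefX2.isCoh_tensor hF'
    (CurveDeg.isCoh_of_isInvertible hM))
  have key := eulerCharLE_eq k X q d hd hN hNfp (FlatTwist.isFlatOver_tensor _ hF'.1 hFfl hM) t t₀ ht ht₀
  have hfib : ∀ (s : Spec (CommRingCat.of k) ⟶ T) (hs : s ≫ q = 𝟙 _),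
      Nonempty (Pic13.fibreMod k X q s hs N ≅ CohB1.tensorMod F (Pic13.fibreMod k X q s hs M)) := fun s hs => by
    obtain ⟨p⟩ := H23.PicMul.pull (Pic13.sliceAt k X q s hs) F' M
    exact ⟨p ≪≫ PicGrp.tensorModIso ((Scheme.Modules.pullbackComp _ _).app F ≪≫
      (Scheme.Modules.pullbackCongr (show Pic13.sliceAt k X q s hs ≫ pullback.fst _ _ = 𝟙 X from pullback.lift_fst _ _ _)).app F ≪≫
      (Scheme.Modules.pullbackId X).app F) (Iso.refl _)⟩
  have hc : ∀ {A B : X.Modules} (e : A ≅ B), FGA.eulerCharLE k X A d = FGA.eulerCharLE k X B d := fun e =>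
    Finset.sum_congr rfl fun i _ => by rw [(CurveCohLib.hhEquiv (k := k) e i).finrank_eq]
  obtain ⟨e₁⟩ := hfib t ht
  obtain ⟨e₂⟩ := hfib t₀ ht₀
  obtain ⟨u₀⟩ := H23.PicMul.unit F
  rw [hc (e₁ ≪≫ PicGrp.tensorModIso (Iso.refl _) et), hc (e₂ ≪≫ PicGrp.tensorModIso (Iso.refl _) et₀ ≪≫ u₀)] at key
  exact key

end Groth.Agent.EulerConst
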